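import Mathlib
import Cfsg.Prelude.Def_OddOrderLocal
import Cfsg.Statements.S1350
import Cfsg.Statements.S1408
import Cfsg.Statements.S1414
import Cfsg.Statements.S1417
import Cfsg.Statements.S1418
import Cfsg.Statements.S1422
import Cfsg.Statements.S1423
import Cfsg.Statements.S1426
import Cfsg.Agent.Lib.Helper24.BG.S1431Util
import Cfsg.Agent.Lib.Helper21.BG.S1431InvSylow
import Cfsg.Agent.Lib.Helper20.BG.S1408Core
import Cfsg.Agent.Lib.Helper74.BG.Tools
import Cfsg.Agent.Lib.Helper74.BG.S1425Core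
import Cfsg.Agent.Lib.Helper77.BG1356.PkgC
import Cfsg.Agent.Lib.Helper13.BG.S1427B

/-!
# B&G 13.12 (`tau12_regular`): the "L-side" of the proof

Given the configuration produced by the "M-side" of a counterexample to B&G 13.12 (`X = C_A(Y)` of
order `r`, `N_G(X) ≤ M ≤ C_G(X)`, a nonabelian `r`-subgroup of `N_G(A)`), derive a contradiction
inside the maximal subgroup `L` over `N_G(A)`.
-/

set_option autoImplicit false

namespace Cfsg.Agent.Lib.Helper24.BG31

open Cfsg Cfsg.Agent.Lib.Helper46 Cfsg.Agent.Lib.Helper35.BG Cfsg.Agent.Lib.Helper67.BG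

universe u

/-- An element of order prime to `r` lies in a normal `r`-complement. -/
theorem mem_normal_pcompl {H : Type*} [Group H] [Finite H] {r : ℕ} [Fact r.Prime]
    (P : Sylow r H) (N : Subgroup H) [N.Normal] (hc : N.IsComplement' (P : Subgroup H))
    (y : H) (hy : (orderOf y).Coprime r) : y ∈ N := by
  have hidx : N.index = Nat.card (P : Subgroup H) := hc.symm.index_eq_card
  obtain ⟨k, hk⟩ := (P.isPGroup').exists_card_eq
  have h1 : (QuotientGroup.mk y : H ⧸ N) ^ (r ^ k) = 1 := by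
    have : Nat.card (H ⧸ N) = r ^ k := by rw [← hk, ← hidx]; rfl
    rw [← this]
    exact pow_card_eq_one'
  have h2 : (QuotientGroup.mk y : H ⧸ N) ^ (orderOf y) = 1 := by
    rw [← QuotientGroup.mk_pow, pow_orderOf_eq_one]; rfl
  have h3 : orderOf (QuotientGroup.mk y : H ⧸ N) ∣ Nat.gcd (orderOf y) (r ^ k) :=
    Nat.dvd_gcd (orderOf_dvd_of_pow_eq_one h2) (orderOf_dvd_of_pow_eq_one h1)
  have h4 : Nat.gcd (orderOf y) (r ^ k) = 1 := Nat.Coprime.pow_right k hy
  rw [h4, Nat.dvd_one, orderOf_eq_one_iff] at h3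
  exact (QuotientGroup.eq_one_iff y).mp h3

/-- An `r`-element of a normal `r`-complement is trivial. -/
theorem eq_one_of_mem_normal_pcompl {H : Type*} [Group H] [Finite H] {r : ℕ} [Fact r.Prime]
    (P : Sylow r H) (N : Subgroup H) (hc : N.IsComplement' (P : Subgroup H))
    (c : H) (hcN : c ∈ N) (k : ℕ) (hck : c ^ (r ^ k) = 1) : c = 1 := by
  have hr : r.Prime := Fact.out
  have hidx : (P : Subgroup H).index = Nat.card N := hc.index_eq_card
  have h1 : ¬ r ∣ Nat.card N := by rw [← hidx]; exact P.not_dvd_index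
  have h2 : orderOf c ∣ r ^ k := orderOf_dvd_of_pow_eq_one hck
  have h3 : orderOf c ∣ Nat.card N := Subgroup.orderOf_dvd_natCard N hcN
  obtain ⟨j, -, hj⟩ := (Nat.dvd_prime_pow hr).mp h2
  rcases Nat.eq_zero_or_pos j with h0 | hpos
  · rw [h0, pow_zero, orderOf_eq_one_iff] at hj
    exact hj
  · exfalso
    apply h1
    rw [hj] at h3
    exact (dvd_pow_self r hpos.ne').trans h3

/-- **The L-side of B&G 13.12.**  The configuration left by the M-side of a counterexample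
(`X = C_A(Y)` of order `r`, `N_G(X) ≤ M ≤ C_G(X)`, a nonabelian `r`-subgroup of `N_G(A)`)
is contradictory. -/
theorem tau12_Lside {G : Type u} [Group G] [Finite G] (hG : Cfsg.IsMinSimpleOddOrder G)
    (h1350 : type_of% (@Cfsg.CfsgFrozen.S1350 G _ _ hG))
    (h1408 : type_of% (@Cfsg.CfsgFrozen.S1408 G _ _ hG))
    (h1414 : type_of% (@Cfsg.CfsgFrozen.S1414 G _ _ hG))
    (h1417 : type_of% (@Cfsg.CfsgFrozen.S1417 G _ _ hG))
    (h1418 : type_of% (@Cfsg.CfsgFrozen.S1418 G _ _ hG))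
    (h1422 : type_of% (@Cfsg.CfsgFrozen.S1422 G _ _ hG))
    (h1423 : type_of% (@Cfsg.CfsgFrozen.S1423 G _ _ hG))
    (h1426 : type_of% (@Cfsg.CfsgFrozen.S1426 G _ _ hG))
    (M : Subgroup G) (hM : IsCoatom M) (E : Subgroup G) (hE : IsComplIn E (sigmaCore M) M)
    (r : ℕ) [Fact r.Prime] (hr : r ∈ tau2 M) (A : Subgroup G)
    (hA : A ≤ E ∧ IsElementaryAbelian r A ∧ Nat.card A = r ^ 2)
    (q : ℕ) (hq : q ∈ tau1 M) (Y : Subgroup G) (hYE : Y ≤ E) (hY : Nat.card Y = q)
    (hX : Nat.card ↥(A ⊓ Subgroup.centralizer (Y : Set G)) = r)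
    (hNX : Subgroup.normalizer ((A ⊓ Subgroup.centralizer (Y : Set G) : Subgroup G) : Set G) ≤ M)
    (hMX : M ≤ Subgroup.centralizer ((A ⊓ Subgroup.centralizer (Y : Set G) : Subgroup G) : Set G))
    (P₀ : Subgroup G) (hP₀ : IsPGroup r P₀) (hP₀na : ¬ IsMulCommutative P₀)
    (hP₀N : P₀ ≤ Subgroup.normalizer (A : Set G)) : False := by
  have hrp : r.Prime := Fact.out
  have hqp : q.Prime := hq.1
  have : Fact q.Prime := ⟨hqp⟩
  have hqr : q ≠ r := by
    rintro rfl
    exact hr.2.2.2 hq.2.2.2.2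
  have hEM : E ≤ M := hE.1
  have hAM : A ≤ M := hA.1.trans hEM
  obtain ⟨⟨hEN, -⟩, ⟨-, -, hNnot⟩, -⟩ := h1418 M hM E hE r hr A hA
  have hnotideal : ¬ IsIdealPrime r G := (h1408 M hM r hr.2.1 hr.2.2.1 hr.2.2.2).1
  have hAcomm : ∀ a ∈ A, ∀ b ∈ A, a * b = b * a :=
    isMulCommutative_subgroup_iff.mp hA.2.1.1
  have hAexp : ∀ a ∈ A, a ^ r = 1 := hA.2.1.2
  have hAp : IsPGroup r A := IsPGroup.of_card (n := 2) hA.2.2
  -- the maximal subgroup `L`
  have hA1 : A ≠ ⊥ := by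
    intro h
    have hc := hA.2.2
    rw [h, Subgroup.card_bot] at hc
    have : 1 < r ^ 2 := Nat.one_lt_pow (by norm_num) hrp.one_lt
    omega
  have hAtop : A ≠ ⊤ := fun h => hM.1 (top_le_iff.mp (h ▸ hAM))
  obtain ⟨L, ⟨hL, hP₀L⟩, hLuniq⟩ := h1422 r P₀ hP₀ hP₀na
  have hNL : Subgroup.normalizer (A : Set G) ≤ L := by
    obtain ⟨L', hL', hNL'⟩ := exists_coatom_ge (normalizer_ne_top hG hA1 hAtop)
    have := hLuniq L' ⟨hL', hP₀N.trans hNL'⟩
    rwa [this] at hNL'
  have hLM : L ≠ M := fun h => hNnot (h ▸ hNL)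
  have hEL : E ≤ L := hEN.trans hNL
  have hAL : A ≤ L := hA.1.trans hEL
  have hYL : Y ≤ L := hYE.trans hEL
  have hYNA : Y ≤ Subgroup.normalizer (A : Set G) := hYE.trans hEN
  have hP₀1 : P₀ ≠ ⊥ := by
    rintro rfl
    apply hP₀na
    rw [isMulCommutative_subgroup_iff]
    intro a ha b hb
    rw [Subgroup.mem_bot] at ha hb
    rw [ha, hb]
  have hrσ : r ∈ sigma L :=
    Cfsg.Agent.Lib.Helper20.BG.mem_sigma_of_unique hG hL hP₀L hP₀ hP₀1 ⟨L, ⟨hL, hP₀L⟩, hLuniq⟩
  have hHallL : IsPiHallOf (sigma L) (sigmaCore L) L := (h1350 L hL).1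
  have hσL : sigmaCore L ≤ L := sigmaCore_le L
  have hAσ : A ≤ sigmaCore L := by
    apply Cfsg.Agent.Lib.Helper74.BG.le_sigmaCore_of_le hHallL hAL
    intro p hp hdvd
    rw [hA.2.2] at hdvd
    have := (Nat.prime_dvd_prime_iff_eq hp hrp).mp (hp.dvd_of_dvd_pow hdvd)
    rw [this]; exact hrσ
  have hβ : r ∉ beta L := fun h => hnotideal h.2
  obtain ⟨hcompL', hcompσ, -⟩ := (h1414 L hL).2.2.2.2 r hrp hrσ.2.1 hβ
  -- the set `X`
  set X : Subgroup G := A ⊓ Subgroup.centralizer (Y : Set G) with hXdef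
  have hXA : X ≤ A := inf_le_left
  have hXY : X ≤ Subgroup.centralizer (Y : Set G) := inf_le_right
  have hYexp : ∀ y ∈ Y, y ^ q = 1 := by
    intro y hy
    have := pow_card_eq_one' (G := Y) (x := ⟨y, hy⟩)
    rw [hY] at this
    exact congrArg Subtype.val this
  have hYp : IsPGroup q Y := IsPGroup.of_card (n := 1) (by rw [hY, pow_one])
  -- `q ∉ σ(L)`
  have hqσ : q ∉ sigma L := by
    intro hqσ
    have hYσ : Y ≤ sigmaCore L := by
      apply Cfsg.Agent.Lib.Helper74.BG.le_sigmaCore_of_le hHallL hYL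
      intro p hp hdvd
      rw [hY] at hdvd
      have := (Nat.prime_dvd_prime_iff_eq hp hqp).mp hdvd
      rw [this]; exact hqσ
    obtain ⟨P, N, hNn, hNc⟩ := hcompσ
    have hcent : A ≤ Subgroup.centralizer (Y : Set G) := by
      intro a ha
      rw [Subgroup.mem_centralizer_iff]
      intro y hy
      have hy' : (⟨y, hYσ hy⟩ : sigmaCore L) ∈ N := by
        apply mem_normal_pcompl P N hNc
        have h1 : orderOf (⟨y, hYσ hy⟩ : sigmaCore L) ∣ q := by
          apply orderOf_dvd_of_pow_eq_one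
          apply Subtype.ext
          simpa using hYexp y hy
        exact Nat.Coprime.coprime_dvd_left h1 ((Nat.coprime_primes hqp hrp).mpr hqr)
      set a' : sigmaCore L := ⟨a, hAσ ha⟩ with ha'
      set y' : sigmaCore L := ⟨y, hYσ hy⟩ with hy''
      have hcN : a' * y' * a'⁻¹ * y'⁻¹ ∈ N := N.mul_mem (hNn.conj_mem y' hy' a') (N.inv_mem hy')
      have hcA : a * (y * a⁻¹ * y⁻¹) ∈ A :=
        A.mul_mem ha ((Subgroup.mem_normalizer_iff.mp (hYNA hy) a⁻¹).mp (A.inv_mem ha))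
      have hc1 : a' * y' * a'⁻¹ * y'⁻¹ = 1 := by
        apply eq_one_of_mem_normal_pcompl P N hNc _ hcN 1
        apply Subtype.ext
        have : a * y * a⁻¹ * y⁻¹ = a * (y * a⁻¹ * y⁻¹) := by group
        simp only [pow_one, Subgroup.coe_pow, Subgroup.coe_mul, Subgroup.coe_inv, ha', hy'',
          Subgroup.coe_one]
        rw [this]
        exact hAexp _ hcA
      have hc2 : a * y * a⁻¹ * y⁻¹ = 1 := by
        have := congrArg Subtype.val hc1
        simpa [ha', hy''] using this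
      have : y * a = a * y := by
        have h3 : a * y = (a * y * a⁻¹ * y⁻¹) * (y * a) := by group
        rw [h3, hc2, one_mul]
      exact this
    have hXeq : X = A := le_antisymm hXA (le_inf le_rfl hcent)
    rw [hXeq, hA.2.2] at hX
    have : r ^ 2 = r * r := sq r
    have h2 := hrp.one_lt
    nlinarith
  have hqσcard : ¬ q ∣ Nat.card (sigmaCore L) := fun h => hqσ (sigmaCore_isPi L q hqp h)
  have hLnorm : L ≤ Subgroup.normalizer (sigmaCore L : Set G) := sigmaCore_normalizer L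
  have hLtop : L ≠ ⊤ := hL.1
  -- a `Y`-invariant Sylow `r`-subgroup `T1` of `L_σ` containing `A`
  obtain ⟨T1, hT1, hAT1, hYT1⟩ := Cfsg.Agent.Lib.Helper21.BG.lemInvSylow (p := r)
    (sigmaCore L) Y A (hYL.trans hLnorm)
    (by rw [hY]; exact (Nat.Coprime.symm ((Nat.Prime.coprime_iff_not_dvd hqp).mpr hqσcard)))
    (by rw [hY]; exact fun h => hqr ((Nat.prime_dvd_prime_iff_eq hrp hqp).mp h).symm)
    (isSolvable_of_ne_top hG (ne_top_of_le_ne_top hLtop (sup_le hσL hYL)))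
    hAp hAσ hYNA
  have hT1p : IsPGroup r T1 := sylIn_isPGroup hT1
  have hT1L : T1 ≤ L := hT1.1.trans hσL
  have hXT1 : X ≤ T1 := hXA.trans hAT1
  have hX1 : X ≠ ⊥ := by
    intro h
    rw [h, Subgroup.card_bot] at hX
    exact hrp.one_lt.ne hX
  -- elements of order `r` of `T1` centralizing `X` lie in `A`
  have hTM : ∀ u ∈ T1, u ∈ Subgroup.centralizer (X : Set G) → u ^ r = 1 → u ∈ A := by
    intro u huT huX hur
    set TM : Subgroup G := T1 ⊓ Subgroup.centralizer (X : Set G) with hTMdef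
    have hTMM : TM ≤ M :=
      (inf_le_right.trans (centralizer_le_normalizer' X)).trans hNX
    have hTMp : IsPGroup r (TM.subgroupOf M) :=
      (hT1p.to_le inf_le_left).of_equiv (Subgroup.subgroupOfEquivOfLe hTMM).symm
    obtain ⟨PM, hPM⟩ := hTMp.exists_le_sylow
    have hATM : A ≤ TM := by
      refine le_inf hAT1 ?_
      intro a ha
      rw [Subgroup.mem_centralizer_iff]
      intro x hx
      exact hAcomm x (hXA hx) a ha
    have hmem : ∀ t ∈ TM, t ∈ (PM : Subgroup M).map M.subtype := by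
      intro t ht
      exact ⟨⟨t, hTMM ht⟩, hPM (Subgroup.mem_subgroupOf.mpr ht), rfl⟩
    obtain ⟨-, hPMs, -⟩ := h1417 M hM r hr A ⟨hAM, hA.2.1, hA.2.2⟩
    have h2 := ((hPMs PM).2 (fun a ha => hmem a (hATM ha))).1
    exact (h2 u (hmem u ⟨huT, huX⟩)).mp hur
  -- `S₁ = C_{T1}(Y)` and its elements of order `r`
  set S₁ : Subgroup G := T1 ⊓ Subgroup.centralizer (Y : Set G) with hS₁def
  have hXS₁ : X ≤ S₁ := le_inf hXT1 hXY
  have hS₁p : IsPGroup r S₁ := hT1p.to_le inf_le_left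
  have hS₁X : ∀ u ∈ S₁, u ^ r = 1 → u ∈ X := by
    -- a central element of order `r`
    have hS₁nt : Nontrivial S₁ := by
      rw [← Subgroup.nontrivial_iff_ne_bot] at hX1
      obtain ⟨x, hx1⟩ := exists_ne (1 : X)
      refine ⟨⟨⟨x.1, hXS₁ x.2⟩, 1, ?_⟩⟩
      intro h
      apply hx1
      apply Subtype.ext
      exact congrArg (fun t : S₁ => (t : G)) h
    have hZnt : Nontrivial (Subgroup.center S₁) := hS₁p.center_nontrivial
    have hZp : IsPGroup r (Subgroup.center S₁) := hS₁p.to_subgroup _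
    have hdvd : r ∣ Nat.card (Subgroup.center S₁) := by
      obtain ⟨k, hk⟩ := hZp.exists_card_eq
      rw [hk]
      have : k ≠ 0 := by
        intro h0
        rw [h0, pow_zero] at hk
        have := Finite.one_lt_card_iff_nontrivial.mpr hZnt
        omega
      exact dvd_pow_self r this
    obtain ⟨z, hz⟩ := exists_prime_orderOf_dvd_card' r hdvd
    have hz1 : z ≠ 1 := by
      intro h
      rw [h, orderOf_one] at hz
      exact hrp.one_lt.ne hz
    have hzr : ((z : S₁) : G) ^ r = 1 := by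
      have := pow_orderOf_eq_one z
      rw [hz] at this
      have h2 := congrArg (fun t : Subgroup.center S₁ => ((t : S₁) : G)) this
      simpa using h2
    have hzc : ∀ s ∈ S₁, ((z : S₁) : G) * s = s * ((z : S₁) : G) := by
      intro s hs
      have := Subgroup.mem_center_iff.mp z.2 ⟨s, hs⟩
      have h2 := congrArg (fun t : S₁ => (t : G)) this
      simpa using h2.symm
    have hzS : ((z : S₁) : G) ∈ S₁ := (z : S₁).2
    have hzX : ((z : S₁) : G) ∈ X := by
      refine ⟨hTM _ hzS.1 ?_ hzr, hzS.2⟩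
      rw [Subgroup.mem_centralizer_iff]
      intro x hx
      exact (hzc x (hXS₁ hx)).symm
    have hzne : ((z : S₁) : G) ≠ 1 := by
      intro h
      apply hz1
      apply Subtype.ext
      apply Subtype.ext
      simpa using h
    -- `X` is generated by `z`
    have hXz : ∀ x ∈ X, x ∈ Subgroup.zpowers ((z : S₁) : G) := by
      intro x hx
      have : (⟨x, hx⟩ : X) ∈ Subgroup.zpowers (⟨_, hzX⟩ : X) :=
        mem_zpowers_of_prime_card (G := X) (p := r) hX
          (by intro h; exact hzne (congrArg Subtype.val h))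
      obtain ⟨n, hn⟩ := Subgroup.mem_zpowers_iff.mp this
      refine Subgroup.mem_zpowers_iff.mpr ⟨n, ?_⟩
      have h2 := congrArg Subtype.val hn
      simpa using h2
    have hS₁cX : S₁ ≤ Subgroup.centralizer (X : Set G) := by
      intro s hs
      rw [Subgroup.mem_centralizer_iff]
      intro x hx
      obtain ⟨n, rfl⟩ := Subgroup.mem_zpowers_iff.mp (hXz x hx)
      have hc : Commute ((z : S₁) : G) s := hzc s hs
      exact (hc.zpow_left n).eq
    intro u hu hur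
    exact ⟨hTM u hu.1 (hS₁cX hu) hur, hu.2⟩
  -- a complement `F` of `L_σ` in `L` with `Y ≤ F ≤ N(T1)`
  set N₁ : Subgroup G := L ⊓ Subgroup.normalizer (T1 : Set G) with hN₁def
  set Q : Subgroup G := N₁ ⊓ sigmaCore L with hQdef
  have hYN₁ : Y ≤ N₁ := le_inf hYL hYT1
  have hQnorm : N₁ ≤ Subgroup.normalizer (Q : Set G) := by
    intro n hn
    rw [Subgroup.mem_normalizer_iff]
    intro h
    have hnσ := Subgroup.mem_normalizer_iff.mp (hLnorm hn.1) h
    constructor
    · rintro ⟨h1, h2⟩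
      exact ⟨N₁.mul_mem (N₁.mul_mem hn h1) (N₁.inv_mem hn), hnσ.mp h2⟩
    · rintro ⟨h1, h2⟩
      refine ⟨?_, hnσ.mpr h2⟩
      have := N₁.mul_mem (N₁.mul_mem (N₁.inv_mem hn) h1) hn
      simpa [mul_assoc] using this
  have hQcard : Nat.card Q ∣ Nat.card (sigmaCore L) := Subgroup.card_dvd_of_le inf_le_right
  have hQcop : (Nat.card Q).Coprime (Q.relIndex N₁) := by
    rw [Nat.coprime_iff_gcd_eq_one]
    by_contra hne
    obtain ⟨p, hp, hpd⟩ := Nat.exists_prime_and_dvd hne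
    have : Fact p.Prime := ⟨hp⟩
    have hpσ : p ∈ sigma L :=
      sigmaCore_isPi L p hp ((hpd.trans (Nat.gcd_dvd_left _ _)).trans hQcard)
    obtain ⟨S, hS, -⟩ := exists_isSylowIn_ge (p := p) (Q := ⊥) (H := N₁) IsPGroup.of_bot bot_le
    have hSσ : S ≤ sigmaCore L := by
      apply Cfsg.Agent.Lib.Helper74.BG.le_sigmaCore_of_le hHallL (hS.1.trans inf_le_left)
      intro p' hp' hdvd
      rw [hS.2] at hdvd
      have := (Nat.prime_dvd_prime_iff_eq hp' hp).mp (hp'.dvd_of_dvd_pow hdvd)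
      rw [this]; exact hpσ
    have hSQ : S ≤ Q := le_inf hS.1 hSσ
    have h1 : Q.relIndex N₁ ∣ S.relIndex N₁ := Subgroup.relIndex_dvd_of_le_left N₁ hSQ
    exact sylIn_not_dvd_relIndex hS ((hpd.trans (Nat.gcd_dvd_right _ _)).trans h1)
  obtain ⟨F, hF, hYF⟩ := Cfsg.Agent.Lib.Helper77.BG1356.exists_isComplIn_ge_sylow N₁ Q Y q hqp
    inf_le_left hQnorm hQcop hYN₁ hYp (fun h => hqσcard (h.trans hQcard))
  obtain ⟨-, hFN₁, hQF, hFprod⟩ := hF
  have hFL : F ≤ L := hFN₁.trans inf_le_left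
  have hFT1 : F ≤ Subgroup.normalizer (T1 : Set G) := hFN₁.trans inf_le_right
  have hFc : IsComplIn F (sigmaCore L) L := by
    refine ⟨hFL, hσL, ?_, ?_⟩
    · rw [eq_bot_iff]
      intro x hx
      have : x ∈ Q ⊓ F := ⟨⟨hFN₁ hx.1, hx.2⟩, hx.1⟩
      rwa [hQF] at this
    · intro m hm
      obtain ⟨k, hk, hkn⟩ := Cfsg.Agent.Lib.Helper74.BG.frattini_arg hT1 (hLnorm hm)
      have hn : k⁻¹ * m ∈ N₁ := ⟨L.mul_mem (L.inv_mem (hσL hk)) hm, hkn⟩
      obtain ⟨a, ha, b, hb, hab⟩ := hFprod _ hn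
      refine ⟨b, hb, b⁻¹ * (k * a) * b, ?_, ?_⟩
      · have h1 : k * a ∈ sigmaCore L := (sigmaCore L).mul_mem hk ha.2
        have h2 := Cfsg.Agent.Lib.Helper13.BG.conj_mem_sigmaCore (L.inv_mem (hFL hb)) h1
        simpa using h2
      · have : m = k * (k⁻¹ * m) := by group
        rw [this, hab]
        group
  -- `[F, F]` centralizes `T1`
  have hrF : ¬ r ∣ Nat.card F := by
    have h1 := relIndex_right_of_isComplIn hFc
    rw [← h1]
    exact hHallL.2.2 r hrp hrσ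
  obtain ⟨hS26a, hS26b, -⟩ := h1426 L hL F hFc
  have hσder : sigmaCore L ≤ ⁅L, L⁆ := by
    rw [← hS26b]
    exact Subgroup.commutator_mono hσL hFL
  have hT1der : T1 ≤ ⁅L, L⁆ := hT1.1.trans hσder
  have hFFder : ⁅F, F⁆ ≤ ⁅L, L⁆ := Subgroup.commutator_mono hFL hFL
  have hFFT1 : ∀ f ∈ ⁅F, F⁆, ∀ t ∈ T1, f * t = t * f := by
    obtain ⟨P', N', hN'n, hN'c⟩ := hcompL'
    intro f hf t ht
    have hfF : f ∈ F := by
      have hle : ⁅F, F⁆ ≤ F := by
        rw [Subgroup.commutator_le]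
        intro a ha b hb
        rw [commutatorElement_def]
        exact F.mul_mem (F.mul_mem (F.mul_mem ha hb) (F.inv_mem ha)) (F.inv_mem hb)
      exact hle hf
    have hf' : (⟨f, hFFder hf⟩ : ↥⁅L, L⁆) ∈ N' := by
      apply mem_normal_pcompl P' N' hN'c
      have h1 : orderOf (⟨f, hFFder hf⟩ : ↥⁅L, L⁆) ∣ Nat.card F := by
        rw [Subgroup.orderOf_mk]
        exact Subgroup.orderOf_dvd_natCard F hfF
      exact Nat.Coprime.coprime_dvd_left h1
        (Nat.Coprime.symm ((Nat.Prime.coprime_iff_not_dvd hrp).mpr hrF))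
    set f' : ↥⁅L, L⁆ := ⟨f, hFFder hf⟩ with hf'def
    set t' : ↥⁅L, L⁆ := ⟨t, hT1der ht⟩ with ht'def
    have hcN : f' * t' * f'⁻¹ * t'⁻¹ ∈ N' := by
      have h1 : t' * f'⁻¹ * t'⁻¹ ∈ N' := hN'n.conj_mem _ (N'.inv_mem hf') t'
      have e : f' * t' * f'⁻¹ * t'⁻¹ = f' * (t' * f'⁻¹ * t'⁻¹) := by group
      rw [e]
      exact N'.mul_mem hf' h1
    have hcT : f * t * f⁻¹ * t⁻¹ ∈ T1 :=
      T1.mul_mem ((Subgroup.mem_normalizer_iff.mp (hFT1 hfF) t).mp ht) (T1.inv_mem ht)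
    obtain ⟨k, hk⟩ := (IsPGroup.iff_orderOf.mp hT1p) ⟨_, hcT⟩
    have hc1 : f' * t' * f'⁻¹ * t'⁻¹ = 1 := by
      apply eq_one_of_mem_normal_pcompl P' N' hN'c _ hcN k
      apply Subtype.ext
      have h2 := pow_orderOf_eq_one (⟨_, hcT⟩ : T1)
      rw [hk] at h2
      have h3 := congrArg Subtype.val h2
      simpa [hf'def, ht'def] using h3
    have hc2 : f * t * f⁻¹ * t⁻¹ = 1 := by
      have := congrArg Subtype.val hc1
      simpa [hf'def, ht'def] using this
    have h3 : f * t = (f * t * f⁻¹ * t⁻¹) * (t * f) := by group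
    rw [h3, hc2, one_mul]
  -- `F` normalizes `S₁`
  have hFS₁ : ∀ f ∈ F, ∀ s ∈ S₁, f * s * f⁻¹ ∈ S₁ := by
    intro f hf s hs
    have hwT : f * s * f⁻¹ ∈ T1 := (Subgroup.mem_normalizer_iff.mp (hFT1 hf) s).mp hs.1
    refine Subgroup.mem_inf.mpr ⟨hwT, ?_⟩
    rw [Subgroup.mem_centralizer_iff]
    intro y hy
    have hys : y * s = s * y := (Subgroup.mem_centralizer_iff.mp hs.2 y hy)
    have hcF : y * f * y⁻¹ * f⁻¹ ∈ ⁅F, F⁆ := by
      have := Subgroup.commutator_mem_commutator (hYF hy) hf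
      simpa [commutatorElement_def] using this
    have hc := hFFT1 _ hcF _ hwT
    have hys' : y⁻¹ * s * y = s := by rw [mul_assoc, ← hys]; group
    have e1 : (y * f * y⁻¹ * f⁻¹) * (f * s * f⁻¹) * (y * f * y⁻¹ * f⁻¹)⁻¹
        = y * f * (y⁻¹ * s * y) * f⁻¹ * y⁻¹ := by group
    rw [hys'] at e1
    have e2 : (y * f * y⁻¹ * f⁻¹) * (f * s * f⁻¹) * (y * f * y⁻¹ * f⁻¹)⁻¹ = f * s * f⁻¹ := by
      rw [hc]; group
    rw [e2] at e1
    have e3 : y * f * s * f⁻¹ * y⁻¹ * y = y * (f * s * f⁻¹) := by group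
    rw [← e3, ← e1]
  -- `F` normalizes `X`, hence centralizes it
  have hFX : ∀ f ∈ F, ∀ x ∈ X, f * x * f⁻¹ ∈ X := by
    intro f hf x hx
    apply hS₁X _ (hFS₁ f hf x (hXS₁ hx))
    rw [conj_pow, hAexp x (hXA hx)]
    group
  have hFNX : F ≤ Subgroup.normalizer (X : Set G) := by
    intro f hf
    rw [Subgroup.mem_normalizer_iff]
    intro h
    constructor
    · exact hFX f hf h
    · intro hh
      have := hFX f⁻¹ (F.inv_mem hf) _ hh
      simpa [mul_assoc] using this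
  have hFCX : F ≤ Subgroup.centralizer (X : Set G) := (hFNX.trans hNX).trans hMX
  have hXder : X ≤ ⁅sigmaCore L, sigmaCore L⁆ := by
    refine le_trans (le_inf (hXA.trans hAσ) ?_) hS26a
    intro x hx
    rw [Subgroup.mem_centralizer_iff]
    intro f hf
    exact (Subgroup.mem_centralizer_iff.mp (hFCX hf) x hx).symm
  obtain ⟨PL⟩ : Nonempty (Sylow r ↥(sigmaCore L)) := inferInstance
  obtain ⟨⟨-, huniq⟩, -⟩ := h1423 L hL r hrσ X (hXA.trans hAL) hX PL (Or.inr hXder)
  exact hLM (huniq M hM ((centralizer_le_normalizer' X).trans hNX)).symm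

end Cfsg.Agent.Lib.Helper24.BG31
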