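import Mathlib
import Cfsg.Agent.Lib.Helper24.BG.Tau12End
import Cfsg.Agent.Lib.Helper15.BG.Tau12Asm

/-!
# B&G 13.12: the L-side in helper15's `LsideFor` shape
-/

set_option autoImplicit false

namespace Cfsg.Agent.Lib.Helper24.BG31

open Cfsg

universe u

/-- helper15's `LsideFor G`, from the landed `tau12_Lside`. -/
theorem lsideFor {G : Type u} [Group G] [Finite G] (hG : Cfsg.IsMinSimpleOddOrder G)
    (h1350 : type_of% (@Cfsg.CfsgFrozen.S1350 G _ _ hG))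
    (h1408 : type_of% (@Cfsg.CfsgFrozen.S1408 G _ _ hG))
    (h1414 : type_of% (@Cfsg.CfsgFrozen.S1414 G _ _ hG))
    (h1417 : type_of% (@Cfsg.CfsgFrozen.S1417 G _ _ hG))
    (h1418 : type_of% (@Cfsg.CfsgFrozen.S1418 G _ _ hG))
    (h1422 : type_of% (@Cfsg.CfsgFrozen.S1422 G _ _ hG))
    (h1423 : type_of% (@Cfsg.CfsgFrozen.S1423 G _ _ hG))
    (h1426 : type_of% (@Cfsg.CfsgFrozen.S1426 G _ _ hG)) :
    Cfsg.Agent.Lib.Helper15.BG.T12.LsideFor G := by
  intro M hM E hE r _ hr A hA q hq Y hYE hY hX hNX hMX P₀ h4 h5 h6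
  exact tau12_Lside hG h1350 h1408 h1414 h1417 h1418 h1422 h1423 h1426 M hM E hE r hr A hA q hq Y
    hYE hY hX hNX hMX P₀ h4 h5 h6

end Cfsg.Agent.Lib.Helper24.BG31
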