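import Mathlib
import Cfsg.Agent.Lib.Helper24.BG.S1431Asm
import Cfsg.Agent.Lib.Helper54.BG.S1431RankTwo
import Cfsg.Agent.Lib.Helper2.BG.S1431Transfer
import Cfsg.Agent.Lib.Helper21.BG.S1431InvSylow
import Cfsg.Agent.Lib.Helper47.BG.S1431Decomp
import Cfsg.Agent.Lib.Helper80.BG.S1431E
import Cfsg.Agent.Lib.Helper81.BG.S1431Star

/-!
# S1431 (Bender–Glauberman Theorem 14.2 (d)–(g)), conditional core

`s1431_core` derives the statement S1431 from the statements S1350, S1403, S1404, S1405, S1411,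
S1417, S1420, S1422, S1423, S1424, S1425 and S1430 (taken as hypotheses).  Team project:
packages by helper54 (rank two), helper2 (transfer), helper21 (invariant Sylow subgroups),
helper47 (decomposition), helper80 (clause (e)), helper81 (centralizers of elements of `K*`);
assembly by helper24.
-/

set_option autoImplicit false

namespace Cfsg.Agent.Lib.Helper24.BG31

open Cfsg

universe u

theorem s1431_core {G : Type u} [Group G] [Finite G]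
    (hG : Cfsg.IsMinSimpleOddOrder G)
    (h1350 : type_of% (@Cfsg.CfsgFrozen.S1350 G _ _ hG))
    (h1403 : type_of% (@Cfsg.CfsgFrozen.S1403 G _ _ hG))
    (h1404 : type_of% (@Cfsg.CfsgFrozen.S1404 G _ _ hG))
    (h1405 : type_of% (@Cfsg.CfsgFrozen.S1405 G _ _ hG))
    (h1411 : type_of% (@Cfsg.CfsgFrozen.S1411 G _ _ hG))
    (h1417 : type_of% (@Cfsg.CfsgFrozen.S1417 G _ _ hG))
    (h1420 : type_of% (@Cfsg.CfsgFrozen.S1420 G _ _ hG))
    (h1422 : type_of% (@Cfsg.CfsgFrozen.S1422 G _ _ hG))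
    (h1423 : type_of% (@Cfsg.CfsgFrozen.S1423 G _ _ hG))
    (h1424 : type_of% (@Cfsg.CfsgFrozen.S1424 G _ _ hG))
    (h1425 : type_of% (@Cfsg.CfsgFrozen.S1425 G _ _ hG))
    (h1430 : type_of% (@Cfsg.CfsgFrozen.S1430 G _ _ hG))
    (M : Subgroup G) (hM : IsCoatom M) (K : Subgroup G)
    (hK : Cfsg.IsPiHallOf (Cfsg.kappa M) K M) (hK1 : K ≠ ⊥) :
    (∀ g : G, g ∉ M → (Cfsg.sigmaCore M ⊓ Subgroup.centralizer (K : Set G)) ⊓ M.map (MulAut.conj g).toMonoidHom = ⊥) ∧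
      (∀ g ∈ M, g ∉ K ⊔ (Cfsg.sigmaCore M ⊓ Subgroup.centralizer (K : Set G)) → K ⊓ K.map (MulAut.conj g).toMonoidHom = ⊥) ∧
      (∀ (p : ℕ), p.Prime → p ∣ Nat.card ↥(Cfsg.sigmaCore M ⊓ Subgroup.centralizer (K : Set G)) → ∀ S : Sylow p ↥(Cfsg.sigmaCore M),
        Cfsg.InUniqueMaximal ((S : Subgroup ↥(Cfsg.sigmaCore M)).map (Cfsg.sigmaCore M).subtype) ∧
        (S : Subgroup ↥(Cfsg.sigmaCore M)).map (Cfsg.sigmaCore M).subtype ≤ M ∧
        ¬ (S : Subgroup ↥(Cfsg.sigmaCore M)).map (Cfsg.sigmaCore M).subtype ≤ (Cfsg.sigmaCore M ⊓ Subgroup.centralizer (K : Set G))) ∧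
      ∀ Y : Subgroup G, (∀ p : ℕ, p.Prime → p ∣ Nat.card Y → p ∈ Cfsg.sigma M) → Y ⊓ (Cfsg.sigmaCore M ⊓ Subgroup.centralizer (K : Set G)) ≠ ⊥ → Y ≤ Cfsg.sigmaCore M :=
  s1431_asm Cfsg.Agent.Lib.Helper54.BG.lemRankTwo Cfsg.Agent.Lib.Helper2.BG.lemTransfer
    Cfsg.Agent.Lib.Helper21.BG.lemInvSylow Cfsg.Agent.Lib.Helper47.BG.lemDecomp
    Cfsg.Agent.Lib.Helper80.BG.lemE Cfsg.Agent.Lib.Helper81.BG.lemStar
    hG h1350 h1403 h1404 h1405 h1411 h1417 h1420 h1422 h1423 h1424 h1425 h1430 M hM K hK hK1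

end Cfsg.Agent.Lib.Helper24.BG31
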